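import Cfsg.Agent.Lib.SolvableCore.Basic
import Cfsg.Agent.S0205
import Mathlib

/-!
# Cyclic intersections of Sylow 2-subgroups: the solvable radical is cyclic

`X` has trivial odd core, is nonsolvable, and distinct Sylow 2-subgroups meet in cyclic groups.
Then every solvable normal subgroup lies in `O₂(X)`, which is cyclic.  Also: squares in a cyclic
2-group and dihedral facts on two involutions.
-/

set_option autoImplicit false

namespace Cfsg.Agent.Lib.CyclicInt83

open Cfsg Subgroup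
open Cfsg.Agent.Lib
open scoped Pointwise

universe u

variable {X : Type u} [Group X] [Finite X]

/-- Any two distinct Sylow 2-subgroups meet in a cyclic subgroup. -/
def CycInter (X : Type u) [Group X] : Prop :=
  ∀ S T : Sylow 2 X, S ≠ T → IsCyclic ↥((S : Subgroup X) ⊓ (T : Subgroup X))

theorem solvable_of_isPGroup {p : ℕ} [Fact p.Prime] {G : Type u} [Group G] [Finite G]
    (h : IsPGroup p G) : Group.IsSolvable G := by
  haveI := h.isNilpotent
  infer_instance

theorem solvable_of_two_steps (N : Subgroup X) [N.Normal] (h₁ : Group.IsSolvable N)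
    (h₂ : Group.IsSolvable (X ⧸ N)) : Group.IsSolvable X :=
  Group.isSolvable_of_ker_le_range N.subtype (QuotientGroup.mk' N)
    (by rw [QuotientGroup.ker_mk', Subgroup.range_subtype])

theorem exists_ne_sylow (hns : ¬ Group.IsSolvable X) : ∃ S T : Sylow 2 X, S ≠ T := by
  haveI := Fact.mk Nat.prime_two
  by_contra h
  push_neg at h
  obtain ⟨S⟩ : Nonempty (Sylow 2 X) := inferInstance
  haveI : Subsingleton (Sylow 2 X) := ⟨h⟩
  haveI : (S : Subgroup X).Normal := S.normal_of_subsingleton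
  refine hns (solvable_of_two_steps _ (solvable_of_isPGroup S.2) (Cfsg.Agent.S0205.result ?_))
  rw [← Subgroup.index_eq_card]
  exact Nat.not_even_iff_odd.1 fun he => S.not_dvd_index (even_iff_two_dvd.1 he)

theorem isCyclic_pCore (hns : ¬ Group.IsSolvable X) (hC : CycInter X) :
    IsCyclic (pCore 2 X) := by
  haveI := Fact.mk Nat.prime_two
  obtain ⟨S, T, hne⟩ := exists_ne_sylow hns
  haveI := hC S T hne
  exact Subgroup.isCyclic_of_le (le_inf (PSolvable.pCore_le_sylow S) (PSolvable.pCore_le_sylow T))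

/-- An element of odd order centralises a cyclic 2-subgroup that it normalises. -/
theorem mem_centralizer_of_odd (R : Subgroup X) [R.Normal] (hR : IsPGroup 2 R) (hc : IsCyclic R)
    {x : X} (hx : Odd (orderOf x)) : x ∈ centralizer (R : Set X) := by
  haveI := Fact.mk Nat.prime_two
  let f : X →* MulAut R := MulAut.conjNormal
  have h1 : orderOf (f x) ∣ orderOf x := orderOf_map_dvd f x
  have h2 : orderOf (f x) ∣ (Nat.card R).totient := by
    rw [← IsCyclic.card_mulAut]; exact orderOf_dvd_natCard _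
  obtain ⟨k, hk⟩ := IsPGroup.iff_card.1 hR
  have h3 : (Nat.card R).totient ∣ 2 ^ k := by
    rw [hk]
    rcases k with _ | k
    · simp
    · rw [Nat.totient_prime_pow_succ Nat.prime_two]
      exact ⟨2, by rw [show (2 - 1 : ℕ) = 1 from rfl, mul_one, pow_succ]⟩
  have h4 : orderOf (f x) = 1 :=
    Nat.eq_one_of_dvd_coprimes
      ((Nat.coprime_two_right.2 hx).pow_right k) h1 (h2.trans h3)
  rw [orderOf_eq_one_iff] at h4
  refine mem_centralizer_iff.2 fun r hr => ?_
  have h5 := congrArg (fun e : MulAut R => ((e ⟨r, hr⟩ : R) : X)) h4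
  simp only [f, MulAut.one_apply, MulAut.conjNormal_apply] at h5
  exact (mul_inv_eq_iff_eq_mul.1 h5).symm

theorem isPGroup_of_forall_odd {G : Type u} [Group G] [Finite G]
    (h : ∀ x : G, Odd (orderOf x) → x = 1) : IsPGroup 2 G := by
  intro x
  obtain ⟨k, m, hm, hkm⟩ := Nat.exists_eq_two_pow_mul_odd (orderOf_pos x).ne'
  refine ⟨k, h _ ?_⟩
  rw [orderOf_pow' _ (pow_ne_zero k two_ne_zero), hkm,
    Nat.gcd_eq_right (dvd_mul_right _ _), Nat.mul_div_cancel_left _ (pow_pos two_pos k)]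
  exact hm

/-- A solvable normal subgroup lies in the (cyclic) 2-core. -/
theorem le_pCore_of_solvable (hns : ¬ Group.IsSolvable X) (hC : CycInter X)
    (hO : oddCore X = ⊥) (N : Subgroup X) [N.Normal] (hN : Group.IsSolvable N) :
    N ≤ pCore 2 X := by
  haveI := Fact.mk Nat.prime_two
  haveI := (inferInstance : N.Normal)
  have hON : pPrimeCore 2 N = ⊥ := by
    haveI := PSolvable.map_subtype_pPrimeCore_normal (p := 2) N
    have h : (pPrimeCore 2 N).map N.subtype ≤ oddCore X := by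
      refine PSolvable.le_pPrimeCore (p := 2) ?_
      rw [card_map_of_injective N.subtype_injective]
      exact PSolvable.pPrimeCore_coprime
    rwa [hO, le_bot_iff, map_eq_bot_iff_of_injective _ N.subtype_injective] at h
  haveI := PSolvable.map_subtype_pCore_normal (p := 2) N
  have hle : (pCore 2 N).map N.subtype ≤ pCore 2 X :=
    PSolvable.le_pCore (PSolvable.pCore_isPGroup.map N.subtype)
  haveI := isCyclic_pCore hns hC
  have hcyc : IsCyclic ((pCore 2 N).map N.subtype) := Subgroup.isCyclic_of_le hle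
  refine PSolvable.le_pCore (isPGroup_of_forall_odd fun x hx => ?_)
  have hxc : x ∈ centralizer (pCore 2 N : Set N) := by
    refine mem_centralizer_iff.2 fun y hy => Subtype.ext ?_
    have := mem_centralizer_iff.1 (mem_centralizer_of_odd _
      (PSolvable.pCore_isPGroup.map N.subtype) hcyc
      (x := (x : X)) (by rwa [Subgroup.orderOf_coe])) (y : X) ⟨y, hy, rfl⟩
    simpa using this
  have hx2 := SolvableCore.centralizer_pCore_le hN hON hxc
  obtain ⟨k, hk⟩ := IsPGroup.iff_orderOf.1 (PSolvable.pCore_isPGroup (p := 2) (G := N))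
    (⟨x, hx2⟩ : pCore 2 N)
  rw [← Subgroup.orderOf_coe] at hk
  rcases k with _ | k
  · rwa [pow_zero, orderOf_eq_one_iff] at hk
  · change orderOf x = _ at hk
    rw [hk] at hx
    exact absurd hx (Nat.not_odd_iff_even.2 (Nat.even_pow.2 ⟨even_two, k.succ_ne_zero⟩))

/-! ### Squares in a cyclic 2-group -/

/-- `x` is the square of an element of `R`. -/
def Ev (R : Subgroup X) (x : X) : Prop := ∃ y ∈ R, y * y = x

theorem commute_of_mem {R : Subgroup X} (hc : IsCyclic R) {a b : X} (ha : a ∈ R) (hb : b ∈ R) :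
    Commute a b := by
  letI : CommGroup R := IsCyclic.commGroup
  exact congrArg Subtype.val (mul_comm (⟨a, ha⟩ : R) ⟨b, hb⟩)

theorem Ev.mul {R : Subgroup X} (hc : IsCyclic R) {x y : X} (hx : Ev R x) (hy : Ev R y) :
    Ev R (x * y) := by
  obtain ⟨a, ha, rfl⟩ := hx
  obtain ⟨b, hb, rfl⟩ := hy
  exact ⟨a * b, mul_mem ha hb, (commute_of_mem hc hb ha).mul_mul_mul_comm a b⟩

theorem ev_or_zpowers {R : Subgroup X} (hR : IsPGroup 2 R) (hc : IsCyclic R) {x : X}
    (hx : x ∈ R) : Ev R x ∨ zpowers x = R := by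
  obtain ⟨g, hg⟩ := (R.isCyclic_iff_exists_zpowers_eq_top).1 hc
  subst hg
  obtain ⟨i, rfl⟩ := mem_zpowers_iff.1 hx
  rcases Int.even_or_odd i with ⟨j, rfl⟩ | ⟨j, rfl⟩
  · exact Or.inl ⟨g ^ j, zpow_mem (mem_zpowers g) j, by rw [zpow_add]⟩
  · refine Or.inr (le_antisymm (zpowers_le.2 hx) (zpowers_le.2 ?_))
    obtain ⟨k, hk⟩ := hR ⟨g, mem_zpowers g⟩
    have hk' : g ^ ((2 : ℤ) ^ k) = 1 := by
      have := congrArg Subtype.val hk
      simp only [SubmonoidClass.coe_pow, OneMemClass.coe_one] at this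
      rw [show ((2 : ℤ) ^ k) = ((2 ^ k : ℕ) : ℤ) by norm_num, zpow_natCast]
      exact this
    have hcop : IsCoprime (2 * j + 1) ((2 : ℤ) ^ k) := by
      refine IsCoprime.pow_right ?_
      exact ⟨1, -j, by ring⟩
    obtain ⟨a, b, hab⟩ := hcop
    refine mem_zpowers_iff.2 ⟨a, ?_⟩
    calc (g ^ (2 * j + 1)) ^ a = g ^ (a * (2 * j + 1) + b * 2 ^ k) := by
          rw [zpow_add g (a * _), mul_comm b, zpow_mul g ((2 : ℤ) ^ k), hk', one_zpow, mul_one,
            ← zpow_mul, mul_comm]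
      _ = g := by rw [hab, zpow_one]

theorem ev_of_sq_eq_one {R : Subgroup X} (hR : IsPGroup 2 R) (hc : IsCyclic R)
    (h4 : 2 < Nat.card R) {x : X} (hx : x ∈ R) (h2 : x * x = 1) : Ev R x := by
  rcases ev_or_zpowers hR hc hx with h | h
  · exact h
  · exfalso
    have : Nat.card R ≤ 2 := by
      rw [← h, Nat.card_zpowers]
      exact Nat.le_of_dvd two_pos (orderOf_dvd_of_pow_eq_one (by rw [pow_two, h2]))
    omega

theorem ev_mul_of_not {R : Subgroup X} (hR : IsPGroup 2 R) (hc : IsCyclic R) {x y : X}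
    (hx : x ∈ R) (hy : y ∈ R) (hnx : ¬ Ev R x) (hny : ¬ Ev R y) : Ev R (x * y) := by
  have hz := (ev_or_zpowers hR hc hx).resolve_left hnx
  rw [← hz, mem_zpowers_iff] at hy
  obtain ⟨i, rfl⟩ := hy
  rcases Int.even_or_odd i with ⟨j, rfl⟩ | ⟨j, rfl⟩
  · exact absurd ⟨x ^ j, zpow_mem hx j, by rw [zpow_add]⟩ hny
  · refine ⟨x ^ (j + 1), zpow_mem hx _, ?_⟩
    rw [← zpow_add, ← zpow_one_add]; ring_nf

/-- Two involutions of a cyclic subgroup are equal. -/
theorem eq_of_involutions {H : Subgroup X} (hc : IsCyclic H) {a b : X} (ha : a ∈ H) (hb : b ∈ H)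
    (ha2 : orderOf a = 2) (hb2 : orderOf b = 2) : a = b := by
  obtain ⟨g, hg⟩ := (H.isCyclic_iff_exists_zpowers_eq_top).1 hc
  subst hg
  obtain ⟨i, rfl⟩ := mem_zpowers_iff.1 ha
  obtain ⟨j, rfl⟩ := mem_zpowers_iff.1 hb
  have key : ∀ e : ℤ, orderOf (g ^ e) = 2 →
      ∃ k : ℤ, 2 * e = (orderOf g : ℤ) * k ∧ Odd k := by
    intro e he
    have h1 : g ^ (2 * e) = 1 := by
      rw [mul_comm, zpow_mul, show (2 : ℤ) = ((2 : ℕ) : ℤ) from rfl, zpow_natCast, ← he,
        pow_orderOf_eq_one]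
    obtain ⟨k, hk⟩ := orderOf_dvd_iff_zpow_eq_one.2 h1
    refine ⟨k, hk, Int.not_even_iff_odd.1 ?_⟩
    rintro ⟨l, rfl⟩
    have : g ^ e = 1 := orderOf_dvd_iff_zpow_eq_one.1 ⟨l, by linarith⟩
    rw [this, orderOf_one] at he
    exact absurd he (by norm_num)
  obtain ⟨k, hk, hko⟩ := key i ha2
  obtain ⟨l, hl, hlo⟩ := key j hb2
  obtain ⟨c, hc'⟩ := hlo.sub_odd hko
  have hd : g ^ (j - i) = 1 := orderOf_dvd_iff_zpow_eq_one.1 ⟨c, by
    have : (orderOf g : ℤ) * (l - k) = (orderOf g : ℤ) * (c + c) := by rw [hc']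
    linarith⟩
  rw [zpow_sub, mul_inv_eq_one] at hd
  exact hd.symm

/-! ### Two involutions -/

theorem exists_conj_of_odd {G : Type u} [Group G] {a b : G} (ha : a * a = 1) (hb : b * b = 1)
    (h : Odd (orderOf (a * b))) : ∃ c : G, c * a * c⁻¹ = b := by
  obtain ⟨k, hk⟩ := h
  set d := a * b
  set e := d ^ (k + 1)
  have hed : e * e = d := by
    rw [← pow_add, show k + 1 + (k + 1) = orderOf d + 1 by omega, pow_succ, pow_orderOf_eq_one,
      one_mul]
  have hainv : a⁻¹ = a := inv_eq_of_mul_eq_one_right ha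
  have hbinv : b⁻¹ = b := inv_eq_of_mul_eq_one_right hb
  have hi : a * d * a⁻¹ = d⁻¹ := by
    simp only [d, mul_inv_rev, hainv, hbinv]
    rw [← mul_assoc a a b, ha, one_mul]
  have he : a * e * a⁻¹ = e⁻¹ := by rw [← conj_pow, hi, inv_pow]
  refine ⟨a * e, ?_⟩
  have h1 : a * e⁻¹ = e * a := by
    rw [← he, hainv]; simp only [← mul_assoc, ha, one_mul]
  calc a * e * a * (a * e)⁻¹ = a * (e * (a * e⁻¹)) * a⁻¹ := by group
    _ = a * (e * e * a) * a⁻¹ := by rw [h1, mul_assoc e e a]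
    _ = a * (a * b) := by rw [hed]; simp only [d]; group
    _ = b := by rw [← mul_assoc, ha, one_mul]

theorem even_product {G : Type u} [Group G] [Finite G] {a b : G} (ha : a * a = 1) (hb : b * b = 1)
    {m : ℕ} (hm : orderOf (a * b) = 2 * m) :
    (a * b) ^ m ≠ 1 ∧ (a * b) ^ m * (a * b) ^ m = 1 ∧
      Commute a ((a * b) ^ m) ∧ Commute b ((a * b) ^ m) := by
  set d := a * b
  have hpos : 0 < 2 * m := hm ▸ orderOf_pos d
  have hne : d ^ m ≠ 1 := pow_ne_one_of_lt_orderOf (by omega) (by omega)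
  have hsq : d ^ m * d ^ m = 1 := by rw [← pow_add, ← two_mul, ← hm, pow_orderOf_eq_one]
  have hainv : a⁻¹ = a := inv_eq_of_mul_eq_one_right ha
  have hbinv : b⁻¹ = b := inv_eq_of_mul_eq_one_right hb
  have hself : (d ^ m)⁻¹ = d ^ m := inv_eq_of_mul_eq_one_right hsq
  have hca : Commute a (d ^ m) := by
    have hi : a * d * a⁻¹ = d⁻¹ := by
      simp only [d, mul_inv_rev, hainv, hbinv]
      rw [← mul_assoc a a b, ha, one_mul]
    have : a * d ^ m * a⁻¹ = d ^ m := by rw [← conj_pow, hi, inv_pow, hself]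
    exact mul_inv_eq_iff_eq_mul.1 this
  refine ⟨hne, hsq, hca, ?_⟩
  have : Commute (a * d) (d ^ m) := hca.mul_left (Commute.self_pow d m)
  rwa [show a * d = b by simp only [d]; rw [← mul_assoc, ha, one_mul]] at this

/-! ### Fibres of equal size -/

theorem card_of_fibres {α β : Type*} [Finite α] [Finite β] (f : α → β) {c : ℕ}
    (h : ∀ b, Nat.card {a // f a = b} = c) : Nat.card α = Nat.card β * c := by
  haveI := Fintype.ofFinite β
  rw [← Nat.card_congr (Equiv.sigmaFiberEquiv f), Nat.card_sigma,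
    Finset.sum_congr rfl (fun b _ => h b), Finset.sum_const, Finset.card_univ, smul_eq_mul,
    Nat.card_eq_fintype_card]

end Cfsg.Agent.Lib.CyclicInt83
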