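import Cfsg.Agent.Lib.CyclicInt83.Main

/-!
# Passing to `G/O(G)`
-/

set_option autoImplicit false

namespace Cfsg.Agent.Lib.CyclicInt83

open Cfsg Subgroup
open Cfsg.Agent.Lib

universe u v

theorem exists_sylow_over {G : Type u} [Group G] [Finite G] {X : Type v} [Group X] [Finite X]
    (f : G →* X) (hf : Function.Surjective f) (S : Sylow 2 X) {U : Subgroup G}
    (hU : IsPGroup 2 U) (hUS : U ≤ (S : Subgroup X).comap f) :
    ∃ S₁ : Sylow 2 G, U ≤ (S₁ : Subgroup G) ∧ (S₁ : Subgroup G).map f = (S : Subgroup X) := by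
  haveI := Fact.mk Nat.prime_two
  set K := (S : Subgroup X).comap f
  obtain ⟨P, hP⟩ := (hU.comap_of_injective K.subtype K.subtype_injective).exists_le_sylow
  have hi : ¬ 2 ∣ ((P : Subgroup K).map K.subtype).index := by
    rw [Subgroup.index_map_subtype, Nat.prime_two.dvd_mul]
    rintro (h | h)
    · exact P.not_dvd_index h
    · rw [Subgroup.index_comap_of_surjective _ hf] at h
      exact S.not_dvd_index h
  refine ⟨(P.2.map K.subtype).toSylow hi, fun x hx => ⟨⟨x, hUS hx⟩, hP hx, rfl⟩, ?_⟩
  have hle : ((P : Subgroup K).map K.subtype).map f ≤ (S : Subgroup X) := by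
    rintro _ ⟨_, ⟨y, -, rfl⟩, rfl⟩
    exact y.2
  exact (((P.2.map K.subtype).toSylow hi).mapSurjective hf).is_maximal' S.2 hle |>.symm

theorem cycInter_of_surjective {G : Type u} [Group G] [Finite G] {X : Type v} [Group X] [Finite X]
    (f : G →* X) (hf : Function.Surjective f) (h : CycInter G) : CycInter X := by
  haveI := Fact.mk Nat.prime_two
  intro S T hne
  set D := (S : Subgroup X) ⊓ (T : Subgroup X)
  obtain ⟨P⟩ : Nonempty (Sylow 2 (D.comap f)) := inferInstance
  set U := (P : Subgroup (D.comap f)).map (D.comap f).subtype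
  have hU : IsPGroup 2 U := P.2.map _
  have hUD : U ≤ D.comap f := map_subtype_le _
  obtain ⟨S₁, hUS, hS⟩ := exists_sylow_over f hf S hU (hUD.trans (comap_mono inf_le_left))
  obtain ⟨T₁, hUT, hT⟩ := exists_sylow_over f hf T hU (hUD.trans (comap_mono inf_le_right))
  haveI := h S₁ T₁ fun e => hne (Sylow.ext (by rw [← hS, ← hT, e]))
  haveI : IsCyclic U := Subgroup.isCyclic_of_le (le_inf hUS hUT)
  let φ : D.comap f →* D := (f.comp (D.comap f).subtype).codRestrict D fun x => x.2
  have hφ : Function.Surjective φ := fun d => by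
    obtain ⟨g, hg⟩ := hf d.1
    exact ⟨⟨g, show f g ∈ D by rw [hg]; exact d.2⟩, Subtype.ext hg⟩
  have htop : ((P.mapSurjective hφ : Sylow 2 D) : Subgroup D) = ⊤ :=
    ((P.mapSurjective hφ).is_maximal' (Q := ⊤)
      ((S.2.to_inf_left (K := (T : Subgroup X))).of_equiv topEquiv.symm) le_top).symm
  haveI : IsCyclic (P : Subgroup (D.comap f)) :=
    isCyclic_of_surjective _ (equivMapOfInjective (P : Subgroup (D.comap f)) (D.comap f).subtype
      (subtype_injective _)).symm.surjective
  refine isCyclic_of_surjective (φ.comp (P : Subgroup (D.comap f)).subtype) fun d => ?_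
  have hd : d ∈ (P : Subgroup (D.comap f)).map φ := by
    rw [← Sylow.coe_mapSurjective hφ P, htop]
    exact mem_top d
  obtain ⟨x, hx, rfl⟩ := hd
  exact ⟨⟨x, hx⟩, rfl⟩

theorem radical_cyclic_central {G : Type u} [Group G] [Finite G] (hns : ¬ Group.IsSolvable G)
    (hC : CycInter G) (N : Subgroup G) [N.Normal] (hN : Group.IsSolvable N) :
    IsCyclic ↥(N.map (QuotientGroup.mk' (oddCore G))) ∧
      IsPGroup 2 ↥(N.map (QuotientGroup.mk' (oddCore G))) ∧
      N.map (QuotientGroup.mk' (oddCore G)) ≤ center (G ⧸ oddCore G) := by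
  haveI := Fact.mk Nat.prime_two
  set π := QuotientGroup.mk' (oddCore G)
  have hπ : Function.Surjective π := QuotientGroup.mk'_surjective _
  have hns' : ¬ Group.IsSolvable (G ⧸ oddCore G) := fun h => hns (solvable_of_two_steps _
    (Cfsg.Agent.S0205.result (Nat.coprime_two_right.1 PSolvable.pPrimeCore_coprime)) h)
  have hC' := cycInter_of_surjective π hπ hC
  have hO : oddCore (G ⧸ oddCore G) = ⊥ := PSolvable.pPrimeCore_quotient_eq_bot
  haveI : (N.map π).Normal := Subgroup.Normal.map inferInstance π hπ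
  haveI := hN
  have hNs : Group.IsSolvable (N.map π) :=
    Group.isSolvable_of_surjective (f := π.subgroupMap N) (π.subgroupMap_surjective N)
  have hle := le_pCore_of_solvable hns' hC' hO _ hNs
  haveI := isCyclic_pCore hns' hC'
  exact ⟨Subgroup.isCyclic_of_le hle, PSolvable.pCore_isPGroup.to_le hle,
    hle.trans (pCore_le_center hns' hC' hO)⟩

end Cfsg.Agent.Lib.CyclicInt83
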