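import Cfsg.Agent.Lib.CyclicInt83.Basic
import Cfsg.Agent.Lib.ZStar.Final

/-!
# The solvable radical is central

`R = O₂(X)` is cyclic.  If some element does not centralise `R`, work in `Q = X/R`, where every
solvable normal subgroup is trivial and `C̄` is the image of `C(R)`.  An involution of `Q` that lifts
to an involution of `C(R)`, or that lies outside `C̄`, is in a unique Sylow 2-subgroup.  A dihedral
computation shows that no involution lies outside `C̄`; then the liftable involutions form one class,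
one of them is central in a Sylow subgroup, and an equivariant power map from a coset
`s(S̄ ∩ C̄)`, `s ∉ C̄`, shows that it is isolated, against the Z*-theorem.
-/

set_option autoImplicit false

namespace Cfsg.Agent.Lib.CyclicInt83

open Cfsg Subgroup
open Cfsg.Agent.Lib
open scoped Pointwise

universe u

variable {X : Type u} [Group X] [Finite X]

/-- The working hypothesis. -/
structure Setup (R : Subgroup X) : Prop where
  cyc : IsCyclic R
  isP : IsPGroup 2 R
  inter : CycInter X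
  rad : ∀ N : Subgroup X, N.Normal → Group.IsSolvable N → N ≤ R
  nsolv : ¬ Group.IsSolvable X
  moved : centralizer (R : Set X) ≠ ⊤

variable {R : Subgroup X} [R.Normal]

/-- The image of `C(R)` in `X/R`. -/
abbrev CBar (R : Subgroup X) [R.Normal] : Subgroup (X ⧸ R) :=
  (centralizer (R : Set X)).map (QuotientGroup.mk' R)

/-- An involution of `X/R` that lifts to an involution of `C(R)`. -/
def IsA (R : Subgroup X) [R.Normal] (v : X ⧸ R) : Prop :=
  v ≠ 1 ∧ ∃ i ∈ centralizer (R : Set X), QuotientGroup.mk' R i = v ∧ i * i = 1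

/-- `v` lies in at most one Sylow 2-subgroup. -/
def UniqueSyl {Q : Type u} [Group Q] (v : Q) : Prop :=
  ∀ S T : Sylow 2 Q, v ∈ S → v ∈ T → S = T

section Unique

variable {Q : Type u} [Group Q] [Finite Q] {v : Q}

theorem mem_of_isPGroup (hv : UniqueSyl v) {S : Sylow 2 Q} (hS : v ∈ S) {U : Subgroup Q}
    (hU : IsPGroup 2 U) (hvU : v ∈ U) : U ≤ (S : Subgroup Q) := by
  obtain ⟨T, hT⟩ := hU.exists_le_sylow
  rw [hv S T hS (hT hvU)]
  exact hT

theorem mem_of_commute (hv : UniqueSyl v) (hv2 : v * v = 1) {S : Sylow 2 Q} (hS : v ∈ S) {w : Q}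
    (hw : w * w = 1) (hc : Commute v w) : w ∈ S := by
  haveI := Fact.mk Nat.prime_two
  have hp : ∀ a : Q, a * a = 1 → IsPGroup 2 (zpowers a) := fun a ha =>
    IsPGroup.of_card_dvd_pow (p := 2) (n := 1)
      (by rw [Nat.card_zpowers, pow_one]; exact orderOf_dvd_of_pow_eq_one (by rw [pow_two, ha]))
  have hn : zpowers w ≤ normalizer ((zpowers v : Subgroup Q) : Set Q) :=
    le_trans (zpowers_le.2 (mem_centralizer_iff.2 fun x hx => by
      obtain ⟨i, rfl⟩ := mem_zpowers_iff.1 hx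
      exact hc.zpow_left i)) (centralizer_le_normalizer _)
  exact mem_of_isPGroup hv hS ((hp v hv2).to_sup_of_normal_left' (hp w hw) hn)
    (mem_sup_left (mem_zpowers v)) (mem_sup_right (mem_zpowers w))

theorem mem_smul_iff {S : Sylow 2 Q} {g x : Q} : x ∈ g • S ↔ g⁻¹ * x * g ∈ S := by
  change x ∈ ((g • S : Sylow 2 Q) : Subgroup Q) ↔ g⁻¹ * x * g ∈ (S : Subgroup Q)
  rw [Sylow.coe_subgroup_smul, Subgroup.mem_pointwise_smul_iff_inv_smul_mem]
  simp [MulAut.smul_def]

theorem UniqueSyl.conj (hv : UniqueSyl v) (g : Q) : UniqueSyl (g * v * g⁻¹) := by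
  intro S T hS hT
  have h : ∀ U : Sylow 2 Q, g * v * g⁻¹ ∈ U → v ∈ g⁻¹ • U := fun U hU => by
    rwa [mem_smul_iff, inv_inv]
  exact smul_left_cancel g⁻¹ (hv _ _ (h S hS) (h T hT))

theorem mem_normalizer_of_conj (hv : UniqueSyl v) {S : Sylow 2 Q} (hS : v ∈ S) {g : Q}
    (hg : g * v * g⁻¹ ∈ S) : g ∈ normalizer ((S : Subgroup Q) : Set Q) := by
  have h1 : g * v * g⁻¹ ∈ g • S := by
    rw [mem_smul_iff]
    simpa [mul_assoc] using hS
  exact Sylow.smul_eq_iff_mem_normalizer.1 (hv.conj g _ _ h1 hg)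

/-- If `v` commutes with `x`, which is central in some Sylow subgroup, then `x` centralises the
Sylow subgroup of `v`. -/
theorem centralizes_sylow (hv : UniqueSyl v) (hv2 : v * v = 1) {S : Sylow 2 Q} (hS : v ∈ S)
    {x : Q} {T : Sylow 2 Q} (hT : ∀ y ∈ T, Commute x y) (hxv : Commute x v) :
    ∀ y ∈ S, Commute x y := by
  haveI := Fact.mk Nat.prime_two
  set C := centralizer ({x} : Set Q)
  have hTC : (T : Subgroup Q) ≤ C := fun y hy => mem_centralizer_singleton_iff.2 (hT y hy).eq.symm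
  have hvC : v ∈ C := mem_centralizer_singleton_iff.2 hxv.eq.symm
  have hpv : IsPGroup 2 ((zpowers v).subgroupOf C) :=
    (IsPGroup.of_card_dvd_pow (p := 2) (n := 1)
      (by rw [Nat.card_zpowers, pow_one]; exact orderOf_dvd_of_pow_eq_one (by rw [pow_two, hv2]) :
        Nat.card (zpowers v) ∣ 2 ^ 1)).comap_of_injective C.subtype C.subtype_injective
  obtain ⟨P, hP⟩ := hpv.exists_le_sylow
  obtain ⟨c, hc⟩ := MulAction.exists_smul_eq C (T.subtype hTC) P
  have hvP : (⟨v, hvC⟩ : C) ∈ P := hP (mem_zpowers v)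
  rw [← hc, Sylow.smul_subtype] at hvP
  have hvT : v ∈ (c : Q) • T := hvP
  intro y hy
  rw [hv S _ hS hvT, mem_smul_iff] at hy
  have hcx : Commute x (c : Q) := (mem_centralizer_singleton_iff.1 c.2).symm
  have h := (hcx.mul_right (hT _ hy)).mul_right hcx.inv_right
  rwa [show (c : Q) * ((c : Q)⁻¹ * y * c) * (c : Q)⁻¹ = y by group] at h

end Unique

theorem le_centralizer (h : Setup R) : R ≤ centralizer (R : Set X) := fun _ hx =>
  mem_centralizer_iff.2 fun _ hy => (commute_of_mem h.cyc hy hx).eq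

theorem two_lt_card (h : Setup R) : 2 < Nat.card R := by
  by_contra hn
  refine h.moved (eq_top_iff.2 fun x _ => mem_centralizer_iff.2 fun r hr => ?_)
  haveI := h.cyc
  have h1 : Nat.card (MulAut R) = 1 := by
    rw [IsCyclic.card_mulAut]
    have : 0 < Nat.card R := Nat.card_pos
    interval_cases (Nat.card R) <;> simp
  haveI := (Nat.card_eq_one_iff_unique.1 h1).1
  have h5 := congrArg (fun e : MulAut R => ((e ⟨r, hr⟩ : R) : X))
    (Subsingleton.elim (MulAut.conjNormal x : MulAut R) 1)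
  simp only [MulAut.one_apply, MulAut.conjNormal_apply] at h5
  exact (mul_inv_eq_iff_eq_mul.1 h5).symm

theorem commutator_mem (h : Setup R) (a b : X) :
    a * b * a⁻¹ * b⁻¹ ∈ centralizer (R : Set X) := by
  obtain ⟨g, hg⟩ := (R.isCyclic_iff_exists_zpowers_eq_top).1 h.cyc
  have conj : ∀ c : X, ∃ u : ℤ, c * g * c⁻¹ = g ^ u := fun c => by
    obtain ⟨u, hu⟩ := mem_zpowers_iff.1
      (hg.symm ▸ (inferInstance : R.Normal).conj_mem g (hg ▸ mem_zpowers g) c)
    exact ⟨u, hu.symm⟩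
  obtain ⟨u, hu⟩ := conj a
  obtain ⟨w, hw⟩ := conj b
  have h1 : (a * b) * g * (a * b)⁻¹ = (b * a) * g * (b * a)⁻¹ := by
    calc (a * b) * g * (a * b)⁻¹ = a * (b * g * b⁻¹) * a⁻¹ := by group
      _ = (g ^ u) ^ w := by rw [hw, ← conj_zpow, hu]
      _ = (g ^ w) ^ u := by rw [← zpow_mul, ← zpow_mul, mul_comm]
      _ = b * (a * g * a⁻¹) * b⁻¹ := by rw [hu, ← conj_zpow, hw]
      _ = _ := by group
  have h2 : Commute (a * b * a⁻¹ * b⁻¹) g := by
    show a * b * a⁻¹ * b⁻¹ * g = g * (a * b * a⁻¹ * b⁻¹)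
    calc a * b * a⁻¹ * b⁻¹ * g
        = a * b * ((b * a)⁻¹ * g * (b * a)) * (a * b)⁻¹ * (a * b * a⁻¹ * b⁻¹) := by group
      _ = (b * a) * ((b * a)⁻¹ * g * (b * a)) * (b * a)⁻¹ * (a * b * a⁻¹ * b⁻¹) := by
          obtain ⟨e, he⟩ := mem_zpowers_iff.1
            (hg.symm ▸ (inferInstance : R.Normal).conj_mem g (hg ▸ mem_zpowers g) (b * a)⁻¹)
          rw [inv_inv] at he
          rw [← he, ← conj_zpow (i := e) (a := a * b), h1, conj_zpow]
      _ = g * (a * b * a⁻¹ * b⁻¹) := by group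
  refine mem_centralizer_iff.2 fun r hr => ?_
  rw [← hg] at hr
  obtain ⟨i, rfl⟩ := mem_zpowers_iff.1 hr
  exact (h2.zpow_right i).symm

theorem mem_centralizer_of_map (h : Setup R) {g : X}
    (hg : QuotientGroup.mk' R g ∈ CBar R) : g ∈ centralizer (R : Set X) := by
  obtain ⟨c, hc, hcg⟩ := hg
  have : c⁻¹ * g ∈ R := QuotientGroup.eq.1 hcg
  simpa using mul_mem hc (le_centralizer h this)

theorem exists_sylow_preimage (h : Setup R) (S : Sylow 2 (X ⧸ R)) :
    ∃ P : Sylow 2 X, (P : Subgroup X) = (S : Subgroup (X ⧸ R)).comap (QuotientGroup.mk' R) := by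
  haveI := Fact.mk Nat.prime_two
  have hp : IsPGroup 2 ((S : Subgroup (X ⧸ R)).comap (QuotientGroup.mk' R)) :=
    S.2.comap_of_ker_isPGroup _ (by rw [QuotientGroup.ker_mk']; exact h.isP)
  have hi : ¬ 2 ∣ ((S : Subgroup (X ⧸ R)).comap (QuotientGroup.mk' R)).index := by
    rw [Subgroup.index_comap_of_surjective _ (QuotientGroup.mk'_surjective R)]
    exact S.not_dvd_index
  exact ⟨hp.toSylow hi, rfl⟩

theorem sylow_le (h : Setup R) (P : Sylow 2 X) : R ≤ (P : Subgroup X) :=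
  h.isP.le_sylow_of_normal P

theorem uniq_of_lift (h : Setup R) (g : X)
    (hg : ∀ S T : Sylow 2 X, g ∈ S → g ∈ T → S = T) : UniqueSyl (QuotientGroup.mk' R g) := by
  intro S T hS hT
  obtain ⟨P, hP⟩ := exists_sylow_preimage h S
  obtain ⟨P', hP'⟩ := exists_sylow_preimage h T
  have hPP : P = P' := hg P P'
    (show g ∈ (P : Subgroup X) by rw [hP]; exact hS)
    (show g ∈ (P' : Subgroup X) by rw [hP']; exact hT)
  subst hPP
  exact Sylow.ext (Subgroup.comap_injective (QuotientGroup.mk'_surjective R) (hP.symm.trans hP'))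

theorem uniq_out (h : Setup R) {v : X ⧸ R} (hv : v ∉ CBar R) : UniqueSyl v := by
  obtain ⟨g, rfl⟩ := QuotientGroup.mk'_surjective R v
  refine uniq_of_lift h g fun S T hS hT => ?_
  by_contra hne
  exact hv ⟨g, mem_centralizer_iff.2 fun r hr => (commute_of_mem (h.inter S T hne)
    (mem_inf.2 ⟨sylow_le h S hr, sylow_le h T hr⟩) (mem_inf.2 ⟨hS, hT⟩)).eq, rfl⟩

theorem uniq_A (h : Setup R) {v : X ⧸ R} (hv : IsA R v) : UniqueSyl v := by
  haveI := Fact.mk Nat.prime_two
  obtain ⟨hv1, i, -, rfl, hi2⟩ := hv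
  refine uniq_of_lift h i fun S T hS hT => ?_
  by_contra hne
  have h4 := two_lt_card h
  have heven : 2 ∣ Nat.card R := by
    rcases h.isP.card_eq_or_dvd with e | e
    · omega
    · exact e
  obtain ⟨z, hz⟩ := exists_prime_orderOf_dvd_card' 2 heven
  have hiR : i ∉ R := fun hh => hv1 ((QuotientGroup.eq_one_iff i).2 hh)
  have hi : orderOf i = 2 :=
    orderOf_eq_prime (by rw [pow_two, hi2]) (fun e => hiR (e ▸ one_mem R))
  have := eq_of_involutions (h.inter S T hne) (mem_inf.2 ⟨hS, hT⟩)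
    (mem_inf.2 ⟨sylow_le h S z.2, sylow_le h T z.2⟩) hi (by rwa [Subgroup.orderOf_coe])
  exact hiR (this ▸ z.2)

theorem IsA.mem {v : X ⧸ R} (hv : IsA R v) : v ∈ CBar R := by
  obtain ⟨-, i, hi, rfl, -⟩ := hv
  exact ⟨i, hi, rfl⟩

theorem IsA.sq {v : X ⧸ R} (hv : IsA R v) : v * v = 1 := by
  obtain ⟨-, i, -, rfl, h2⟩ := hv
  rw [← map_mul, h2, map_one]

theorem IsA.conj {v : X ⧸ R} (hv : IsA R v) (q : X ⧸ R) : IsA R (q * v * q⁻¹) := by
  obtain ⟨hv1, i, hi, rfl, h2⟩ := hv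
  obtain ⟨g, rfl⟩ := QuotientGroup.mk'_surjective R q
  refine ⟨fun e => hv1 ?_, g * i * g⁻¹, ?_, by simp only [map_mul, map_inv], ?_⟩
  · have := congrArg (fun t => (QuotientGroup.mk' R g)⁻¹ * t * QuotientGroup.mk' R g) e
    simpa [mul_assoc] using this
  · exact (inferInstance : (centralizer (R : Set X)).Normal).conj_mem i hi g
  · rw [← pow_two, conj_pow, pow_two, h2]; group

/-- An element of `C(R)` whose square is a square of `R` gives an A-involution. -/
theorem isA_of_ev (h : Setup R) {g : X} (hg : g ∈ centralizer (R : Set X))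
    (h1 : QuotientGroup.mk' R g ≠ 1) (he : Ev R (g * g)) : IsA R (QuotientGroup.mk' R g) := by
  obtain ⟨y, hy, hyy⟩ := he
  have hc : Commute g y⁻¹ := Commute.inv_right (show Commute g y from (mem_centralizer_iff.1 hg y hy).symm)
  refine ⟨h1, g * y⁻¹, mul_mem hg (le_centralizer h (inv_mem hy)), ?_, ?_⟩
  · rw [map_mul, show QuotientGroup.mk' R y⁻¹ = 1 from (QuotientGroup.eq_one_iff _).2 (inv_mem hy),
      mul_one]
  · rw [hc.symm.mul_mul_mul_comm, ← hyy]; group

theorem not_ev_of_not_isA (h : Setup R) {v : X ⧸ R} (hv : v ≠ 1) (hA : ¬ IsA R v) {g : X}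
    (hg : g ∈ centralizer (R : Set X)) (hgv : QuotientGroup.mk' R g = v) : ¬ Ev R (g * g) :=
  fun he => hA (hgv ▸ isA_of_ev h hg (hgv ▸ hv) he)

/-- The product of two commuting involutions of `C̄` that are not of type A is of type A. -/
theorem isA_mul (h : Setup R) {v w : X ⧸ R} (hv : v ∈ CBar R) (hw : w ∈ CBar R)
    (hv1 : v ≠ 1) (hw1 : w ≠ 1) (hv2 : v * v = 1) (hw2 : w * w = 1) (hne : w ≠ v)
    (hc : Commute v w) (hvA : ¬ IsA R v) (hwA : ¬ IsA R w) : IsA R (v * w) := by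
  obtain ⟨a, ha, rfl⟩ := hv
  obtain ⟨b, hb, rfl⟩ := hw
  have haa : a * a ∈ R := (QuotientGroup.eq_one_iff _).1 (by
    show QuotientGroup.mk' R (a * a) = 1
    rw [map_mul, hv2])
  have hbb : b * b ∈ R := (QuotientGroup.eq_one_iff _).1 (by
    show QuotientGroup.mk' R (b * b) = 1
    rw [map_mul, hw2])
  set c := b * a * b⁻¹ * a⁻¹
  have hcR : c ∈ R := (QuotientGroup.eq_one_iff _).1 (by
    show QuotientGroup.mk' R c = 1
    simp only [c, map_mul, map_inv, hc.eq.symm]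
    group)
  have hba : b * a * b⁻¹ = c * a := by simp only [c]; group
  have hca : Commute c a := mem_centralizer_iff.1 ha c hcR
  have hc2 : c * c = 1 := by
    have h1 : (c * a) * (c * a) = a * a := by
      rw [← hba]
      calc b * a * b⁻¹ * (b * a * b⁻¹) = b * (a * a) * b⁻¹ := by group
        _ = a * a := by rw [← mem_centralizer_iff.1 hb _ haa]; group
    rwa [(hca.symm).mul_mul_mul_comm, mul_eq_right] at h1
  rw [← map_mul]
  refine isA_of_ev h (mul_mem ha hb) ?_ ?_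
  · rw [map_mul]
    intro e
    exact hne ((eq_inv_of_mul_eq_one_right e).trans (inv_eq_of_mul_eq_one_right hv2))
  · have e : a * b * (a * b) = c * (a * a * (b * b)) := by
      calc a * b * (a * b) = a * (b * a * b⁻¹) * (b * b) := by group
        _ = a * (c * a) * (b * b) := by rw [hba]
        _ = _ := by rw [← mul_assoc a c a, ← hca.eq]; group
    rw [e]
    exact (ev_of_sq_eq_one h.isP h.cyc (two_lt_card h) hcR hc2).mul h.cyc
      (ev_mul_of_not h.isP h.cyc haa hbb (not_ev_of_not_isA h hv1 hvA ha rfl)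
        (not_ev_of_not_isA h hw1 hwA hb rfl))

theorem normal_solvable_eq_bot (h : Setup R) (N : Subgroup (X ⧸ R)) [N.Normal]
    (hN : Group.IsSolvable N) : N = ⊥ := by
  haveI := Fact.mk Nat.prime_two
  haveI : Group.IsSolvable R := solvable_of_isPGroup h.isP
  haveI := hN
  set M := N.comap (QuotientGroup.mk' R)
  let f : M →* N := ((QuotientGroup.mk' R).comp M.subtype).codRestrict N fun x => x.2
  have hRM : R ≤ M := fun x hx => by
    show QuotientGroup.mk' R x ∈ N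
    rw [show QuotientGroup.mk' R x = 1 from (QuotientGroup.eq_one_iff _).2 hx]
    exact one_mem _
  have hs : Group.IsSolvable M :=
    Group.isSolvable_of_ker_le_range (Subgroup.inclusion hRM) f fun x hx =>
      ⟨⟨(x : X), (QuotientGroup.eq_one_iff _).1 (congrArg Subtype.val (MonoidHom.mem_ker.1 hx))⟩,
        Subtype.ext rfl⟩
  have hle := h.rad M inferInstance hs
  rw [eq_bot_iff]
  intro q hq
  obtain ⟨x, rfl⟩ := QuotientGroup.mk'_surjective R q
  exact (QuotientGroup.eq_one_iff _).2 (hle hq)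

theorem oddCore_eq_bot (h : Setup R) : oddCore (X ⧸ R) = ⊥ :=
  normal_solvable_eq_bot h _
    (Cfsg.Agent.S0205.result (Nat.coprime_two_right.1 PSolvable.pPrimeCore_coprime))

theorem not_isolated (h : Setup R) {z : X ⧸ R} (hz : orderOf z = 2) :
    ¬ IsIsolatedInvolution z := by
  intro hi
  have hc : z ∈ center (X ⧸ R) := mem_center_iff.2 fun g => by
    have h1 := ZStar.zStar (X ⧸ R) z hi g
    rw [oddCore_eq_bot h, mem_bot, mul_inv_eq_one, mul_inv_eq_iff_eq_mul] at h1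
    exact h1.symm
  rw [normal_solvable_eq_bot h (center (X ⧸ R))
    (Group.isSolvable_of_comm fun a b => Subtype.ext (mem_center_iff.1 b.2 a.1)), mem_bot] at hc
  rw [hc, orderOf_one] at hz
  exact absurd hz (by norm_num)

theorem orderOf_eq_two {Q : Type u} [Group Q] {x : Q} (h1 : x ≠ 1) (h2 : x * x = 1) :
    orderOf x = 2 := orderOf_eq_prime (by rw [pow_two, h2]) h1

theorem not_solvable_cbar (h : Setup R) : ¬ Odd (Nat.card (CBar R)) := by
  intro ho
  have hb : CBar R = ⊥ := normal_solvable_eq_bot h _ (Cfsg.Agent.S0205.result ho)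
  have hC : centralizer (R : Set X) ≤ R := fun x hx => (QuotientGroup.eq_one_iff _).1 (by
    have : QuotientGroup.mk' R x ∈ CBar R := ⟨x, hx, rfl⟩
    rwa [hb, mem_bot] at this)
  haveI := Fact.mk Nat.prime_two
  refine h.nsolv (solvable_of_two_steps R (solvable_of_isPGroup h.isP) ?_)
  refine Group.isSolvable_of_comm fun a b => ?_
  obtain ⟨a, rfl⟩ := QuotientGroup.mk'_surjective R a
  obtain ⟨b, rfl⟩ := QuotientGroup.mk'_surjective R b
  rw [← map_mul, ← map_mul, QuotientGroup.mk'_eq_mk']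
  have := hC (commutator_mem h b⁻¹ a⁻¹)
  exact ⟨_, this, by group⟩

theorem exists_isA (h : Setup R) : ∃ v : X ⧸ R, IsA R v := by
  haveI := Fact.mk Nat.prime_two
  by_contra hno
  push_neg at hno
  obtain ⟨x, hx⟩ := exists_prime_orderOf_dvd_card' 2
    (even_iff_two_dvd.1 (Nat.not_odd_iff_even.1 (not_solvable_cbar h)))
  rw [← Subgroup.orderOf_coe] at hx
  refine not_isolated h hx ⟨hx, fun g hg => ?_⟩
  by_contra hne
  have hx1 : (x : X ⧸ R) ≠ 1 := fun e => by rw [e, orderOf_one] at hx; exact absurd hx (by norm_num)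
  have hx2 : (x : X ⧸ R) * x = 1 := by rw [← pow_two, ← hx, pow_orderOf_eq_one]
  refine hno _ (isA_mul h x.2 ((inferInstance : (CBar R).Normal).conj_mem _ x.2 g) hx1 ?_ hx2 ?_
    hne hg (hno _) (hno _))
  · exact fun e => hx1 (conj_eq_one_iff.1 e)
  · rw [← pow_two, conj_pow, pow_two, hx2]; group

theorem exists_isA_not_mem (h : Setup R) (S : Sylow 2 (X ⧸ R)) :
    ∃ v : X ⧸ R, IsA R v ∧ v ∉ S := by
  haveI := Fact.mk Nat.prime_two
  by_contra hall
  push_neg at hall
  obtain ⟨a, ha⟩ := exists_isA h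
  have hle : normalClosure ({a} : Set (X ⧸ R)) ≤ (S : Subgroup (X ⧸ R)) := by
    rw [normalClosure, closure_le]
    intro y hy
    obtain ⟨_, rfl, hb⟩ := Group.mem_conjugatesOfSet_iff.1 hy
    obtain ⟨g, rfl⟩ := isConj_iff.1 hb
    exact hall _ (ha.conj g)
  have := normal_solvable_eq_bot h _ (solvable_of_isPGroup (S.2.to_le hle))
  exact ha.1 (mem_bot.1 (this ▸ subset_normalClosure (Set.mem_singleton a)))

/-- No involution of `X/R` lies outside `C̄`. -/
theorem mem_cbar (h : Setup R) {v : X ⧸ R} (hv2 : v * v = 1) : v ∈ CBar R := by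
  haveI := Fact.mk Nat.prime_two
  by_contra hv
  have huv := uniq_out h hv
  obtain ⟨S, hS⟩ := (IsPGroup.of_card_dvd_pow (p := 2) (n := 1)
    (by rw [Nat.card_zpowers, pow_one]; exact orderOf_dvd_of_pow_eq_one (by rw [pow_two, hv2]) :
      Nat.card (zpowers v) ∣ 2 ^ 1)).exists_le_sylow
  have hvS : v ∈ S := hS (mem_zpowers v)
  obtain ⟨y, hyA, hyS⟩ := exists_isA_not_mem h S
  rcases Nat.even_or_odd (orderOf (v * y)) with ⟨m, hm⟩ | hodd
  swap
  · obtain ⟨c, hc⟩ := exists_conj_of_odd hv2 hyA.sq hodd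
    refine hv ?_
    rw [show v = c⁻¹ * y * c⁻¹⁻¹ by rw [← hc]; group]
    exact (inferInstance : (CBar R).Normal).conj_mem _ hyA.mem _
  obtain ⟨hw1, hw2, hvw, hyw⟩ := even_product hv2 hyA.sq (m := m) (by omega)
  set w := (v * y) ^ m with hw
  have hwS : w ∈ S := mem_of_commute huv hv2 hvS hw2 hvw
  refine hyS (mem_of_commute ?_ hw2 hwS hyA.sq hyw.symm)
  by_cases hwC : w ∈ CBar R
  swap
  · exact uniq_out h hwC
  refine uniq_A h ?_
  -- the lift
  obtain ⟨s, rfl⟩ := QuotientGroup.mk'_surjective R v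
  obtain ⟨hy1, i, hi, rfl, hi2⟩ := hyA
  set π := QuotientGroup.mk' R
  have hq : s * s ∈ R := (QuotientGroup.eq_one_iff _).1 (by
    show π (s * s) = 1
    rw [map_mul, hv2])
  set g := s * i with hg
  have hiq : Commute i (s * s) := (mem_centralizer_iff.1 hi _ hq).symm
  have hgq : Commute g (s * s) := ((Commute.refl s).mul_right (Commute.refl s)).mul_left hiq
  have hii : i⁻¹ = i := inv_eq_of_mul_eq_one_right hi2
  have hconj : i * g * i⁻¹ = g⁻¹ * (s * s) := by
    simp only [g, mul_inv_rev, hii]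
    calc i * (s * i) * i = i * s * (i * i) := by group
      _ = i * s := by rw [hi2, mul_one]
      _ = i * s⁻¹ * (s * s) := by group
  have hd : π s * π i = π g := by rw [hg, map_mul]
  have hme : Even m := by
    by_contra hmo
    rw [Nat.not_even_iff_odd] at hmo
    obtain ⟨k, rfl⟩ := hmo
    have hd2 : π g * π g ∈ CBar R := by
      have h1 : π g * π g = π s * π i * (π s)⁻¹ * π i := by
        rw [← hd, inv_eq_of_mul_eq_one_right hv2]; group
      rw [h1]
      exact mul_mem ((inferInstance : (CBar R).Normal).conj_mem _ ⟨i, hi, rfl⟩ _) ⟨i, hi, rfl⟩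
    refine hv ?_
    have h3 : π g ∈ CBar R := by
      rw [hw, hd, pow_succ, pow_mul, pow_two] at hwC
      exact (Subgroup.mul_mem_cancel_left _ (pow_mem hd2 k)).1 hwC
    rw [← hd] at h3
    exact (Subgroup.mul_mem_cancel_right _ (show π i ∈ CBar R from ⟨i, hi, rfl⟩)).1 h3
  obtain ⟨k, rfl⟩ := hme
  have hwg : w = π (g ^ (k + k)) := by rw [map_pow, ← hd]
  rw [hwg] at hwC hw1 hw2 ⊢
  refine isA_of_ev h (mem_centralizer_of_map h hwC) hw1 ?_
  set x := g ^ (k + k) * g ^ (k + k) with hx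
  have hxR : x ∈ R := (QuotientGroup.eq_one_iff _).1 (by
    show π x = 1
    rw [hx, map_mul, hw2])
  have hix : i * x * i⁻¹ = x := by rw [← mem_centralizer_iff.1 hi x hxR]; group
  have h1 : x = x⁻¹ * (s * s) ^ ((k + k) + (k + k)) := by
    calc x = i * g ^ ((k + k) + (k + k)) * i⁻¹ := by rw [pow_add g (k + k) (k + k), ← hx, hix]
      _ = (g⁻¹ * (s * s)) ^ ((k + k) + (k + k)) := by rw [← conj_pow, hconj]
      _ = (g⁻¹) ^ ((k + k) + (k + k)) * (s * s) ^ ((k + k) + (k + k)) := hgq.inv_left.mul_pow _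
      _ = _ := by rw [inv_pow, hx, ← pow_add]
  set y := (s * s) ^ k with hy
  have hyR : y ∈ R := pow_mem hq k
  have h2 : x * x = y * y * (y * y) := by
    have h1' : x * x = x * (x⁻¹ * (s * s) ^ ((k + k) + (k + k))) := by rw [← h1]
    rw [h1', mul_inv_cancel_left, hy, ← pow_add, ← pow_add]
  have hyy : y * y ∈ R := mul_mem hyR hyR
  have he : Ev R (x * (y * y)⁻¹) := by
    refine ev_of_sq_eq_one h.isP h.cyc (two_lt_card h) (mul_mem hxR (inv_mem hyy)) ?_
    rw [(commute_of_mem h.cyc (inv_mem hyy) hxR).mul_mul_mul_comm, h2, ← mul_inv_rev,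
      mul_inv_cancel]
  have := he.mul h.cyc (⟨y, hyR, rfl⟩ : Ev R (y * y))
  rwa [inv_mul_cancel_right] at this

theorem conj_of_not_mem (h : Setup R) {a b : X ⧸ R} (ha : IsA R a) (hb : IsA R b)
    {S : Sylow 2 (X ⧸ R)} (haS : a ∈ S) (hbS : b ∉ S) : ∃ c, c * a * c⁻¹ = b := by
  rcases Nat.even_or_odd (orderOf (a * b)) with ⟨m, hm⟩ | hodd
  swap
  · exact exists_conj_of_odd ha.sq hb.sq hodd
  exfalso
  obtain ⟨hw1, hw2, haw, hbw⟩ := even_product ha.sq hb.sq (m := m) (by omega)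
  set w := (a * b) ^ m with hw
  have hwS : w ∈ S := mem_of_commute (uniq_A h ha) ha.sq haS hw2 haw
  refine hbS (mem_of_commute (uniq_A h ?_) hw2 hwS hb.sq hbw.symm)
  obtain ⟨-, i, hi, rfl, hi2⟩ := ha
  obtain ⟨-, j, hj, rfl, hj2⟩ := hb
  set π := QuotientGroup.mk' R
  have hwg : w = π ((i * j) ^ m) := by rw [map_pow, map_mul]
  rw [hwg] at hw1 hw2 ⊢
  refine isA_of_ev h (pow_mem (mul_mem hi hj) m) hw1 ?_
  set g := i * j
  set x := g ^ m * g ^ m with hx
  have hxR : x ∈ R := (QuotientGroup.eq_one_iff _).1 (by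
    show π x = 1
    rw [hx, map_mul, hw2])
  refine ev_of_sq_eq_one h.isP h.cyc (two_lt_card h) hxR ?_
  have hii : i⁻¹ = i := inv_eq_of_mul_eq_one_right hi2
  have hjj : j⁻¹ = j := inv_eq_of_mul_eq_one_right hj2
  have hig : i * g * i⁻¹ = g⁻¹ := by
    simp only [g, mul_inv_rev, hii, hjj]
    rw [← mul_assoc i i j, hi2, one_mul]
  have h1 : i * x * i⁻¹ = x := by rw [← mem_centralizer_iff.1 hi x hxR]; group
  rw [hx, ← pow_add, ← conj_pow, hig, inv_pow] at h1
  rw [hx, ← pow_add]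
  nth_rw 1 [← h1]
  rw [inv_mul_cancel]

theorem exists_conj (h : Setup R) {a b : X ⧸ R} (ha : IsA R a) (hb : IsA R b)
    {S : Sylow 2 (X ⧸ R)} (haS : a ∈ S) : ∃ c, c * a * c⁻¹ = b := by
  by_cases hbS : b ∈ S
  · obtain ⟨d, hd, hdS⟩ := exists_isA_not_mem h S
    obtain ⟨c, hc⟩ := conj_of_not_mem h ha hd haS hdS
    obtain ⟨e, he⟩ := conj_of_not_mem h hb hd hbS hdS
    exact ⟨e⁻¹ * c, by rw [show b = e⁻¹ * d * e by rw [← he]; group, ← hc]; group⟩
  · exact conj_of_not_mem h ha hb haS hbS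

theorem exists_central_isA (h : Setup R) : ∃ (v : X ⧸ R) (S : Sylow 2 (X ⧸ R)),
    IsA R v ∧ v ∈ S ∧ ∀ y ∈ S, Commute v y := by
  haveI := Fact.mk Nat.prime_two
  obtain ⟨S₀⟩ : Nonempty (Sylow 2 (X ⧸ R)) := inferInstance
  have hne : (S₀ : Subgroup (X ⧸ R)) ≠ ⊥ := by
    intro e
    obtain ⟨a, ha⟩ := exists_isA h
    obtain ⟨T, hT⟩ := (IsPGroup.of_card_dvd_pow (p := 2) (n := 1)
      (by rw [Nat.card_zpowers, pow_one]; exact orderOf_dvd_of_pow_eq_one (by rw [pow_two, ha.sq]) :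
        Nat.card (zpowers a) ∣ 2 ^ 1)).exists_le_sylow
    have h1 : Nat.card T = 1 := by
      rw [T.card_eq_multiplicity, ← S₀.card_eq_multiplicity, e, Subgroup.card_bot]
    have := Subgroup.eq_bot_of_card_eq _ h1 ▸ hT (mem_zpowers a)
    exact ha.1 (mem_bot.1 this)
  haveI : Nontrivial S₀ := (Subgroup.nontrivial_iff_ne_bot _).2 hne
  obtain ⟨z, hz⟩ : ∃ z : center S₀, orderOf z = 2 := by
    haveI := S₀.2.center_nontrivial
    refine exists_prime_orderOf_dvd_card' 2 ?_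
    rcases (S₀.2.to_subgroup (center S₀)).card_eq_or_dvd with e | e
    · exact absurd e Finite.one_lt_card.ne'
    · exact e
  set x : X ⧸ R := ((z : S₀) : X ⧸ R)
  have hx : orderOf x = 2 := by
    show orderOf ((z : S₀) : X ⧸ R) = 2
    exact (Subgroup.orderOf_coe (z : S₀)).trans ((Subgroup.orderOf_coe z).trans hz)
  have hx1 : x ≠ 1 := fun e => by rw [e, orderOf_one] at hx; exact absurd hx (by norm_num)
  have hx2 : x * x = 1 := by rw [← pow_two, ← hx, pow_orderOf_eq_one]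
  have hcen : ∀ y ∈ S₀, Commute x y := fun y hy =>
    (congrArg Subtype.val (mem_center_iff.1 z.2 ⟨y, hy⟩)).symm
  by_cases hxA : IsA R x
  · exact ⟨x, S₀, hxA, (z : S₀).2, hcen⟩
  obtain ⟨g, hg, hne'⟩ : ∃ g, Commute x (g * x * g⁻¹) ∧ g * x * g⁻¹ ≠ x := by
    by_contra hno
    push_neg at hno
    exact not_isolated h hx ⟨hx, hno⟩
  set x' := g * x * g⁻¹ with hx'
  have hx'2 : x' * x' = 1 := by rw [hx', ← pow_two, conj_pow, pow_two, hx2]; group
  have hx'A : ¬ IsA R x' := fun e => hxA (by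
    have := e.conj g⁻¹
    rwa [show g⁻¹ * x' * g⁻¹⁻¹ = x by rw [hx']; group] at this)
  have hxC := mem_cbar h hx2
  set a := x * x' with hadef
  have ha : IsA R a := isA_mul h hxC (mem_cbar h hx'2) hx1
    (fun e => hx1 (conj_eq_one_iff.1 e)) hx2 hx'2 hne' hg hxA hx'A
  obtain ⟨S, hS⟩ := (IsPGroup.of_card_dvd_pow (p := 2) (n := 1)
    (by rw [Nat.card_zpowers, pow_one]; exact orderOf_dvd_of_pow_eq_one (by rw [pow_two, ha.sq]) :
      Nat.card (zpowers a) ∣ 2 ^ 1)).exists_le_sylow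
  have haS : a ∈ S := hS (mem_zpowers a)
  have h1 := centralizes_sylow (uniq_A h ha) ha.sq haS hcen
    ((Commute.refl x).mul_right hg)
  have h2 := centralizes_sylow (uniq_A h ha) ha.sq haS (T := g • S₀) (x := x')
    (fun y hy => by
      have := (hcen _ (mem_smul_iff.1 hy)).map (MulAut.conj g).toMonoidHom
      simpa [hx', mul_assoc] using this)
    (hg.symm.mul_right (Commute.refl x'))
  exact ⟨a, S, ha, haS, fun y hy => (h1 y hy).mul_left (h2 y hy)⟩

/-- The involution at the bottom of `⟨t⟩`, for `t` a 2-element outside `C̄`. -/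
theorem isA_pow (h : Setup R) {S : Sylow 2 (X ⧸ R)} {t : X ⧸ R} (htS : t ∈ S) (ht : t ∉ CBar R) :
    IsA R (t ^ (orderOf t / 2)) := by
  haveI := Fact.mk Nat.prime_two
  obtain ⟨a, ha⟩ := IsPGroup.iff_orderOf.1 S.2 ⟨t, htS⟩
  rw [← Subgroup.orderOf_coe] at ha
  change orderOf t = _ at ha
  rcases a with _ | _ | a
  · rw [pow_zero, orderOf_eq_one_iff] at ha
    exact absurd (ha ▸ one_mem _) ht
  · exact absurd (mem_cbar h (by rw [← pow_two, ← pow_one 2, ← ha, pow_orderOf_eq_one])) ht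
  set N := orderOf t / 2 with hN
  have hNN : N + N = orderOf t := by rw [hN, ha, pow_succ]; omega
  have hpos : 0 < N := by
    have := orderOf_pos t
    omega
  have h1 : t ^ N ≠ 1 := pow_ne_one_of_lt_orderOf hpos.ne' (by omega)
  have h2 : t ^ N * t ^ N = 1 := by rw [← pow_add, hNN, pow_orderOf_eq_one]
  obtain ⟨g, rfl⟩ := QuotientGroup.mk'_surjective R t
  rw [← map_pow] at h1 h2 ⊢
  have hgC : g ^ N ∈ centralizer (R : Set X) := mem_centralizer_of_map h (mem_cbar h h2)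
  have hxR : g ^ N * g ^ N ∈ R := (QuotientGroup.eq_one_iff _).1 (by
    show QuotientGroup.mk' R (g ^ N * g ^ N) = 1
    rw [map_mul, h2])
  refine isA_of_ev h hgC h1 ((ev_or_zpowers h.isP h.cyc hxR).resolve_right fun e => ht ?_)
  refine ⟨g, mem_centralizer_iff.2 fun r hr => ?_, rfl⟩
  rw [← e] at hr
  obtain ⟨j, rfl⟩ := mem_zpowers_iff.1 hr
  exact (((Commute.self_pow g N).mul_right (Commute.self_pow g N)).zpow_right j).symm

theorem exists_not_mem_cbar (h : Setup R) (S : Sylow 2 (X ⧸ R)) : ∃ s ∈ S, s ∉ CBar R := by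
  haveI := Fact.mk Nat.prime_two
  by_contra hall
  push_neg at hall
  refine h.moved (eq_top_iff.2 fun x _ => mem_centralizer_of_map h ?_)
  set q := QuotientGroup.mk' R x with hqdef
  obtain ⟨k, m, hm, hkm⟩ := Nat.exists_eq_two_pow_mul_odd (orderOf_pos x).ne'
  have hodd : x ^ 2 ^ k ∈ centralizer (R : Set X) := by
    refine mem_centralizer_of_odd R h.isP h.cyc ?_
    rw [orderOf_pow' _ (pow_ne_zero k two_ne_zero), hkm, Nat.gcd_eq_right (dvd_mul_right _ _),
      Nat.mul_div_cancel_left _ (pow_pos two_pos k)]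
    exact hm
  have h1 : q ^ 2 ^ k ∈ CBar R := ⟨_, hodd, map_pow _ _ _⟩
  have h2 : q ^ m ∈ CBar R := by
    have hp : IsPGroup 2 (zpowers (q ^ m)) :=
      IsPGroup.of_card_dvd_pow (p := 2) (n := k) (by
        rw [Nat.card_zpowers]
        refine orderOf_dvd_of_pow_eq_one ?_
        rw [← pow_mul, mul_comm, ← hkm, hqdef, ← map_pow, pow_orderOf_eq_one, map_one])
    obtain ⟨T, hT⟩ := hp.exists_le_sylow
    obtain ⟨c, hc⟩ := MulAction.exists_smul_eq (X ⧸ R) S T
    have := hall _ (mem_smul_iff.1 (hc ▸ hT (mem_zpowers _)))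
    have := (inferInstance : (CBar R).Normal).conj_mem _ this c
    rwa [show c * (c⁻¹ * q ^ m * c) * c⁻¹ = q ^ m by group] at this
  obtain ⟨a, b, hab⟩ := Int.isCoprime_iff_gcd_eq_one.2
    (show Int.gcd ((2 ^ k : ℕ) : ℤ) (m : ℤ) = 1 by
      rw [Int.gcd_natCast_natCast]; exact (Nat.coprime_two_left.2 hm).pow_left k)
  have : (q ^ 2 ^ k) ^ a * (q ^ m) ^ b = q := by
    rw [← zpow_natCast, ← zpow_natCast q m, ← zpow_mul, ← zpow_mul, ← zpow_add, mul_comm _ a,
      mul_comm _ b, hab, zpow_one]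
  rw [← this]
  exact mul_mem (zpow_mem h1 a) (zpow_mem h2 b)

theorem no_setup (h : Setup R) : False := by
  haveI := Fact.mk Nat.prime_two
  obtain ⟨v, S, hvA, hvS, hvc⟩ := exists_central_isA h
  let N : Subgroup (X ⧸ R) := normalizer ((S : Subgroup (X ⧸ R)) : Set (X ⧸ R))
  let Ω := {y : (X ⧸ R) // IsA R y ∧ y ∈ S}
  have horb : ∀ y : Ω, ∃ n ∈ N, n * v * n⁻¹ = y.1 := fun y => by
    obtain ⟨c, hc⟩ := exists_conj h hvA y.2.1 hvS
    exact ⟨c, mem_normalizer_of_conj (uniq_A h hvA) hvS (hc ▸ y.2.2), hc⟩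
  have hmemN : ∀ n ∈ N, ∀ y ∈ S, n * y * n⁻¹ ∈ S := fun n hn y hy =>
    (mem_normalizer_iff.1 hn y).1 hy
  let φ : N → Ω := fun n => ⟨n.1 * v * n.1⁻¹, hvA.conj _, hmemN _ n.2 _ hvS⟩
  have hfib : ∀ y, Nat.card {n // φ n = y} = Nat.card {n // φ n = φ 1} := by
    intro y
    obtain ⟨c, hc, hcy⟩ := horb y
    refine (Nat.card_congr ((Equiv.mulLeft (⟨c, hc⟩ : N)).subtypeEquiv fun n => ?_)).symm
    constructor
    · intro e
      have e' : n.1 * v * n.1⁻¹ = v := by simpa [φ] using congrArg Subtype.val e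
      apply Subtype.ext
      show c * n.1 * v * (c * n.1)⁻¹ = y.1
      rw [← hcy]
      conv_rhs => rw [← e']
      group
    · intro e
      have e' : c * n.1 * v * (c * n.1)⁻¹ = y.1 := congrArg Subtype.val e
      apply Subtype.ext
      show n.1 * v * n.1⁻¹ = ((1 : N) : (X ⧸ R)) * v * ((1 : N) : (X ⧸ R))⁻¹
      have := congrArg (fun t => c⁻¹ * t * c) (e'.trans hcy.symm)
      simpa [mul_assoc] using this
  have hN := card_of_fibres φ hfib
  let St : Subgroup N := (centralizer ({v} : Set (X ⧸ R))).subgroupOf N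
  have hst : Nat.card {n // φ n = φ 1} = Nat.card St := by
    refine Nat.card_congr (Equiv.subtypeEquivRight fun n => ?_)
    rw [Subtype.ext_iff]
    show n.1 * v * n.1⁻¹ = ((1 : N) : (X ⧸ R)) * v * ((1 : N) : (X ⧸ R))⁻¹ ↔ n.1 ∈ centralizer ({v} : Set (X ⧸ R))
    rw [mem_centralizer_singleton_iff, mul_inv_eq_iff_eq_mul]
    simp
  have hdvd : Nat.card S ∣ Nat.card St := by
    have hSN : (S : Subgroup (X ⧸ R)) ≤ N := le_normalizer
    rw [← Nat.card_congr (subgroupOfEquivOfLe hSN).toEquiv]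
    exact card_dvd_of_le fun n hn => mem_centralizer_singleton_iff.2 (hvc _ hn).eq.symm
  have hΩodd : Odd (Nat.card Ω) := by
    rw [← Nat.not_even_iff_odd]
    intro he
    refine S.not_dvd_index (dvd_trans (even_iff_two_dvd.1 he) ?_)
    refine Nat.dvd_of_mul_dvd_mul_left (Nat.card_pos (α := (S : Subgroup (X ⧸ R)))) ?_
    rw [card_mul_index]
    refine dvd_trans ?_ (card_subgroup_dvd_card N)
    rw [hN, hst, mul_comm]
    exact mul_dvd_mul dvd_rfl hdvd
  -- the coset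
  obtain ⟨s, hsS, hsC⟩ := exists_not_mem_cbar h S
  let K := {t : (X ⧸ R) // t ∈ S ∧ t * s⁻¹ ∈ CBar R}
  have hKout : ∀ t : K, t.1 ∉ CBar R := fun t ht => hsC (by
    have := (Subgroup.mul_mem_cancel_left (CBar R) ht).1 t.2.2
    simpa using this)
  let f : K → Ω := fun t =>
    ⟨t.1 ^ (orderOf t.1 / 2), isA_pow h t.2.1 (hKout t), pow_mem t.2.1 _⟩
  have hKinv : ∀ n ∈ N, ∀ t : K, n * t.1 * n⁻¹ ∈ S ∧ n * t.1 * n⁻¹ * s⁻¹ ∈ CBar R := by
    intro n hn t
    refine ⟨hmemN n hn _ t.2.1, ?_⟩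
    have h1 : n * t.1 * n⁻¹ * t.1⁻¹ ∈ CBar R := by
      obtain ⟨a, rfl⟩ := QuotientGroup.mk'_surjective R n
      obtain ⟨b, hb⟩ := QuotientGroup.mk'_surjective R t.1
      exact ⟨_, commutator_mem h a b, by simp only [map_mul, map_inv, hb]⟩
    have := mul_mem h1 t.2.2
    simpa [mul_assoc] using this
  let P : Ω → Type u := fun y => {t : K // f t = y}
  have htrans : ∀ (n : N) (y y' : Ω), n.1 * y.1 * n.1⁻¹ = y'.1 →
      Nat.card {t : K // f t = y} ≤ Nat.card {t : K // f t = y'} := by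
    intro n y y' hyy'
    refine Nat.card_le_card_of_injective
      (fun t => ⟨⟨n.1 * t.1.1 * n.1⁻¹, hKinv _ n.2 t.1⟩, Subtype.ext ?_⟩) ?_
    · show (n.1 * t.1.1 * n.1⁻¹) ^ (orderOf (n.1 * t.1.1 * n.1⁻¹) / 2) = y'.1
      rw [← hyy', ← congrArg Subtype.val t.2, conj_pow]
      congr 4
      exact (SemiconjBy.orderOf_eq n.1 (show SemiconjBy n.1 t.1.1 (n.1 * t.1.1 * n.1⁻¹) by
        show n.1 * t.1.1 = n.1 * t.1.1 * n.1⁻¹ * n.1
        group)).symm
    · intro t₁ t₂ e
      have e' : n.1 * t₁.1.1 * n.1⁻¹ = n.1 * t₂.1.1 * n.1⁻¹ :=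
        congrArg (fun t => t.1.1) e
      exact Subtype.ext (Subtype.ext (by simpa using e'))
  have hfib' : ∀ y, Nat.card {t : K // f t = y} = Nat.card {t : K // f t = φ 1} := by
    intro y
    obtain ⟨c, hc, hcy⟩ := horb y
    refine le_antisymm (htrans (⟨c, hc⟩⁻¹ : N) y (φ 1) ?_) (htrans ⟨c, hc⟩ (φ 1) y ?_)
    · show c⁻¹ * y.1 * c⁻¹⁻¹ = ((1 : N) : (X ⧸ R)) * v * ((1 : N) : (X ⧸ R))⁻¹
      rw [← hcy]; simp [mul_assoc]
    · show c * (((1 : N) : (X ⧸ R)) * v * ((1 : N) : (X ⧸ R))⁻¹) * c⁻¹ = y.1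
      rw [← hcy]; simp
  have hK := card_of_fibres f hfib'
  have hKcard : Nat.card K = Nat.card ((S : Subgroup (X ⧸ R)) ⊓ CBar R : Subgroup (X ⧸ R)) :=
    Nat.card_congr
      { toFun := fun t => ⟨t.1 * s⁻¹, Subgroup.mem_inf.2 ⟨Subgroup.mul_mem (S : Subgroup (X ⧸ R)) t.2.1 (Subgroup.inv_mem (S : Subgroup (X ⧸ R)) hsS), t.2.2⟩⟩
        invFun := fun u => ⟨u.1 * s, mul_mem u.2.1 hsS, by simpa using u.2.2⟩
        left_inv := fun t => by simp
        right_inv := fun u => by simp }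
  obtain ⟨e, he⟩ := IsPGroup.iff_card.1 (S.2.to_inf_left (K := CBar R))
  have hone : Nat.card Ω = 1 := by
    refine Nat.eq_one_of_dvd_coprimes ((Nat.coprime_two_right.2 hΩodd).pow_right e) dvd_rfl ?_
    rw [← he, ← hKcard, hK]
    exact dvd_mul_right _ _
  have hsub : Subsingleton Ω := (Nat.card_eq_one_iff_unique.1 hone).1
  have hv1 : orderOf v = 2 := orderOf_eq_two hvA.1 hvA.sq
  refine not_isolated h hv1 ⟨hv1, fun g hg => ?_⟩
  have hy := hvA.conj g
  have hyS := mem_of_commute (uniq_A h hvA) hvA.sq hvS hy.sq hg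
  exact congrArg Subtype.val (@Subsingleton.elim _ hsub ⟨_, hy, hyS⟩ ⟨v, hvA, hvS⟩)

/-- The 2-core is central. -/
theorem pCore_le_center (hns : ¬ Group.IsSolvable X) (hC : CycInter X) (hO : oddCore X = ⊥) :
    pCore 2 X ≤ center X := by
  by_contra hnc
  refine no_setup (R := pCore 2 X) ⟨isCyclic_pCore hns hC, PSolvable.pCore_isPGroup, hC,
    fun N hN hs => le_pCore_of_solvable hns hC hO N hs, hns, fun e => hnc fun x hx => ?_⟩
  exact mem_center_iff.2 fun g =>
    (mem_centralizer_iff.1 (e ▸ mem_top g : g ∈ centralizer (pCore 2 X : Set X)) x hx).symm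

end Cfsg.Agent.Lib.CyclicInt83
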